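-- Team project LQ (S5981): SL_n(q), q odd, against the similarity group of a quadratic form.
-- Interface file: definitions and the package statements (helper23).
import Mathlib
import Cfsg.Prelude.Def_GeometricClasses
import Cfsg.Prelude.Def_Classical

set_option autoImplicit false
open scoped MatrixGroups
open Matrix Polynomial

namespace Cfsg.Agent.Lib.Helper23.LQ

universe u

/-- Gram matrix of the polar form of `Q` in the standard basis. -/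
noncomputable def gram {F : Type u} [Field F] {n : ℕ} (Q : (Fin n → F) → F) :
    Matrix (Fin n) (Fin n) F :=
  Matrix.of fun j k => QuadraticMap.polar Q (Pi.single j 1) (Pi.single k 1)

/-- `x` fixes a coset of `SL ⊓ quadSimilarityGroup Q` in `SL`. -/
def Fixable {F : Type u} [Field F] {n : ℕ} (Q : (Fin n → F) → F) (x : GL (Fin n) F) : Prop :=
  ∃ g ∈ Cfsg.Geo.specialLinear (Fin n) F, g⁻¹ * x * g ∈ Cfsg.Geo.quadSimilarityGroup Q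

/-- The eigenvalue multiplicities of `x` are symmetric under `a ↦ μ / a` for some `μ ≠ 0`. -/
def RankSym {F : Type u} [Field F] {n : ℕ} (x : Matrix (Fin n) (Fin n) F) : Prop :=
  ∃ μ : F, μ ≠ 0 ∧ ∀ a : F, a ≠ 0 →
    (x - a • (1 : Matrix (Fin n) (Fin n) F)).rank = (x - (μ / a) • (1 : Matrix (Fin n) (Fin n) F)).rank

/-- Number of isometries of `Q`. -/
noncomputable def isoCard {F : Type u} [Field F] {n : ℕ} (Q : (Fin n → F) → F) : ℕ :=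
  Nat.card (Cfsg.isometryGroup F Q)

/-! ## Basic packages -/

/-- [GRAM] -/
def PkgGram : Prop :=
  ∀ (F : Type u) [Field F] (n : ℕ) (Q : (Fin n → F) → F)
    (_hQ : Cfsg.Geo.IsNondegenerateQuadraticForm Q),
    (gram Q).transpose = gram Q ∧ IsUnit (gram Q).det ∧
    (∀ u v : Fin n → F, QuadraticMap.polar Q u v = u ⬝ᵥ (gram Q *ᵥ v)) ∧
    (∀ v : Fin n → F, 2 * Q v = v ⬝ᵥ (gram Q *ᵥ v)) ∧
    (∀ (y : Matrix (Fin n) (Fin n) F) (c : F), (∀ v, Q (y *ᵥ v) = c * Q v) →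
      y.transpose * gram Q * y = c • gram Q)

/-- [CONJ] -/
def PkgConj : Prop :=
  ∀ (F : Type u) [Field F] (n : ℕ) (Q : (Fin n → F) → F)
    (_hQ : Cfsg.Geo.IsNondegenerateQuadraticForm Q) (g x : GL (Fin n) F),
    g⁻¹ * x * g ∈ Cfsg.Geo.quadSimilarityGroup Q →
    ∃ Q' : (Fin n → F) → F, Cfsg.Geo.IsNondegenerateQuadraticForm Q' ∧
      x ∈ Cfsg.Geo.quadSimilarityGroup Q' ∧
      (gram Q').det * ((g : Matrix (Fin n) (Fin n) F).det) ^ 2 = (gram Q).det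

/-- [MULT] -/
def PkgMult : Prop :=
  ∀ (F : Type u) [Field F] [Fintype F] (n : ℕ) (_hn : 1 ≤ n) (Q : (Fin n → F) → F)
    (_hQ : Cfsg.Geo.IsNondegenerateQuadraticForm Q) (r : ℕ) (_hr : r.Prime)
    (_hrq : ¬ r ∣ Fintype.card F - 1) (x : GL (Fin n) F), x ^ r = 1 →
    x ∈ Cfsg.Geo.quadSimilarityGroup Q → ∀ v, Q ((x : Matrix (Fin n) (Fin n) F) *ᵥ v) = Q v

/-- [RANK] -/
def PkgRank : Prop :=
  ∀ (F : Type u) [Field F] (n : ℕ) (Q : (Fin n → F) → F)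
    (_hQ : Cfsg.Geo.IsNondegenerateQuadraticForm Q) (y : GL (Fin n) F),
    y ∈ Cfsg.Geo.quadSimilarityGroup Q → RankSym (y : Matrix (Fin n) (Fin n) F)

/-! ## Derangements -/

/-- [TRANSV] -/
def PkgTransv : Prop :=
  ∀ (F : Type u) [Field F] (_h2 : (2 : F) ≠ 0) (p : ℕ) [Fact p.Prime] [CharP F p] (n : ℕ)
    (_hn : 2 ≤ n),
    ∃ x : GL (Fin n) F, x ∈ Cfsg.Geo.specialLinear (Fin n) F ∧ x ^ p = 1 ∧
      (∀ z : F, (x : Matrix (Fin n) (Fin n) F) ≠ z • (1 : Matrix (Fin n) (Fin n) F)) ∧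
      ∀ Q : (Fin n → F) → F, Cfsg.Geo.IsNondegenerateQuadraticForm Q →
        ¬ (∀ v, Q ((x : Matrix (Fin n) (Fin n) F) *ᵥ v) = Q v)

/-- [DIAGA] -/
def PkgDiagA : Prop :=
  ∀ (F : Type u) [Field F] [Fintype F] (n : ℕ) (_hn : 3 ≤ n) (r : ℕ) (_hr : r.Prime) (_hr5 : 5 ≤ r)
    (_hrq : r ∣ Fintype.card F - 1) (_hex : ¬ (n = 5 ∧ r = 5)),
    ∃ x : GL (Fin n) F, x ∈ Cfsg.Geo.specialLinear (Fin n) F ∧ x ^ r = 1 ∧
      (∀ z : F, (x : Matrix (Fin n) (Fin n) F) ≠ z • (1 : Matrix (Fin n) (Fin n) F)) ∧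
      ¬ RankSym (x : Matrix (Fin n) (Fin n) F)

/-- [DIAGB] -/
def PkgDiagB : Prop :=
  ∀ (F : Type u) [Field F] [Fintype F] (r : ℕ) (_hr : r.Prime) (_hr3 : 3 ≤ r)
    (_hrq : r ^ 2 ∣ Fintype.card F - 1),
    ∃ x : GL (Fin r) F, x ∈ Cfsg.Geo.specialLinear (Fin r) F ∧
      (∃ z : F, ((x ^ r : GL (Fin r) F) : Matrix (Fin r) (Fin r) F) =
        z • (1 : Matrix (Fin r) (Fin r) F)) ∧
      (∀ z : F, (x : Matrix (Fin r) (Fin r) F) ≠ z • (1 : Matrix (Fin r) (Fin r) F)) ∧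
      ¬ RankSym (x : Matrix (Fin r) (Fin r) F)

/-- [DIAGC] -/
def PkgDiagC : Prop :=
  ∀ (F : Type u) [Field F] [Fintype F] (n : ℕ) (_hn : 4 ≤ n) (_hn6 : n ≠ 6)
    (_hrq : 3 ∣ Fintype.card F - 1),
    ∃ x : GL (Fin n) F, x ∈ Cfsg.Geo.specialLinear (Fin n) F ∧ x ^ 3 = 1 ∧
      (∀ z : F, (x : Matrix (Fin n) (Fin n) F) ≠ z • (1 : Matrix (Fin n) (Fin n) F)) ∧
      ¬ RankSym (x : Matrix (Fin n) (Fin n) F)

/-- [BLOCK] -/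
def PkgBlock : Prop :=
  ∀ (F : Type u) [Field F] [Fintype F] (r : ℕ) (_hr : r.Prime) (_hrq : ¬ r ∣ Fintype.card F)
    (i : ℕ) (_hi : i = orderOf ((Fintype.card F : ℕ) : ZMod r)),
    ∃ M : Matrix (Fin i) (Fin i) F, M ^ r = 1 ∧ IsUnit (M - 1).det

/-- [ODDDER] -/
def PkgOddDer : Prop :=
  ∀ (F : Type u) [Field F] [Fintype F] (_h2 : (2 : F) ≠ 0) (r : ℕ) (_hr : r.Prime) (_hr2 : r ≠ 2)
    (_hrq : ¬ r ∣ Fintype.card F) (i : ℕ) (_hi : i = orderOf ((Fintype.card F : ℕ) : ZMod r))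
    (_hodd : Odd i) (_hi3 : 3 ≤ i) (n : ℕ) (_hin : i ≤ n),
    ∃ x : GL (Fin n) F, x ∈ Cfsg.Geo.specialLinear (Fin n) F ∧ x ^ r = 1 ∧
      (∀ z : F, (x : Matrix (Fin n) (Fin n) F) ≠ z • (1 : Matrix (Fin n) (Fin n) F)) ∧
      ∀ Q : (Fin n → F) → F, Cfsg.Geo.IsNondegenerateQuadraticForm Q →
        x ∉ Cfsg.Geo.quadSimilarityGroup Q

/-- [SKEW] -/
def PkgSkew : Prop :=
  ∀ (F : Type u) [Field F] (_h2 : (2 : F) ≠ 0) (n : ℕ) (A : Matrix (Fin n) (Fin n) F),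
    A.transpose = -A → IsSquare A.det

/-- [DISC] -/
def PkgDisc : Prop :=
  ∀ (F : Type u) [Field F] (_h2 : (2 : F) ≠ 0) (n : ℕ) (B x : Matrix (Fin n) (Fin n) F),
    B.transpose = B → x.transpose * B * x = B → IsSquare ((1 - x).det * B.det * (1 + x).det)

/-- [BLOCKEVEN] -/
def PkgBlockEven : Prop :=
  ∀ (F : Type u) [Field F] [Fintype F] (_h2 : (2 : F) ≠ 0) (r : ℕ) (_hr : r.Prime) (_hr2 : r ≠ 2)
    (_hrq : ¬ r ∣ Fintype.card F) (i : ℕ) (_hi : i = orderOf ((Fintype.card F : ℕ) : ZMod r))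
    (_heven : Even i),
    ∃ M : Matrix (Fin i) (Fin i) F, M ^ r = 1 ∧ IsUnit (M - 1).det ∧
      ¬ IsSquare ((-1 : F) ^ (i / 2) * (1 - M * M).det)

/-- [EVENDER] -/
def PkgEvenDer : Prop :=
  ∀ (F : Type u) [Field F] [Fintype F] (_h2 : (2 : F) ≠ 0) (r : ℕ) (_hr : r.Prime) (_hr2 : r ≠ 2)
    (_hrq : ¬ r ∣ Fintype.card F) (i : ℕ) (_hi : i = orderOf ((Fintype.card F : ℕ) : ZMod r))
    (_heven : Even i) (n : ℕ) (_hn : 1 ≤ n) (_hin : i ∣ n),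
    ∃ x : GL (Fin n) F, x ∈ Cfsg.Geo.specialLinear (Fin n) F ∧ x ^ r = 1 ∧
      (∀ z : F, (x : Matrix (Fin n) (Fin n) F) ≠ z • (1 : Matrix (Fin n) (Fin n) F)) ∧
      ∀ Q : (Fin n → F) → F, Cfsg.Geo.IsNondegenerateQuadraticForm Q →
        x ∈ Cfsg.Geo.quadSimilarityGroup Q →
        (IsSquare ((-1 : F) ^ (n / 2) * (gram Q).det) ↔ Even (n / i))

/-! ## The index (orders of orthogonal groups) -/

/-- [WSTD] -/
def PkgWStd : Prop :=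
  ∀ (F : Type u) [Field F] [Fintype F] (_h2 : (2 : F) ≠ 0) (n : ℕ) (Q : (Fin n → F) → F)
    (_hQ : Cfsg.Geo.IsNondegenerateQuadraticForm Q),
    (∃ (m : ℕ) (c : F) (e : (Fin n → F) ≃ₗ[F] (Unit ⊕ (Fin m ⊕ Fin m) → F)), c ≠ 0 ∧
        ∀ v, Q v = c * Cfsg.quadFormOdd m F (e v)) ∨
    (∃ (m : ℕ) (e : (Fin n → F) ≃ₗ[F] (Fin m ⊕ Fin m → F)),
        ∀ v, Q v = Cfsg.quadFormPlus m F (e v)) ∨
    (∃ (m : ℕ) (a b : F) (e : (Fin n → F) ≃ₗ[F] ((Fin m ⊕ Fin m) ⊕ Fin 2 → F)),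
        (∀ z₁ z₂ : F, z₁ ^ 2 + a * z₁ * z₂ + b * z₂ ^ 2 = 0 → z₁ = 0 ∧ z₂ = 0) ∧
        ∀ v, Q v = Cfsg.quadFormMinus m F a b (e v))

/-- [ORD] -/
def PkgOrd : Prop :=
  ∀ (F : Type u) [Field F] [Fintype F] (_h2 : (2 : F) ≠ 0) (n : ℕ) (_hn : 1 ≤ n)
    (Q : (Fin n → F) → F) (_hQ : Cfsg.Geo.IsNondegenerateQuadraticForm Q),
    (∃ m, n = 2 * m + 1 ∧
      isoCard Q = 2 * Fintype.card F ^ (m ^ 2) *
        ∏ l ∈ Finset.range m, (Fintype.card F ^ (2 * (l + 1)) - 1)) ∨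
    (∃ m, n = 2 * m ∧ IsSquare ((-1 : F) ^ m * (gram Q).det) ∧
      isoCard Q = 2 * Fintype.card F ^ (m * (m - 1)) * (Fintype.card F ^ m - 1) *
        ∏ l ∈ Finset.range (m - 1), (Fintype.card F ^ (2 * (l + 1)) - 1)) ∨
    (∃ m, n = 2 * m ∧ ¬ IsSquare ((-1 : F) ^ m * (gram Q).det) ∧
      isoCard Q = 2 * Fintype.card F ^ (m * (m - 1)) * (Fintype.card F ^ m + 1) *
        ∏ l ∈ Finset.range (m - 1), (Fintype.card F ^ (2 * (l + 1)) - 1))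

/-- [NUM] -/
def PkgNum : Prop :=
  ∀ (q : ℕ) (_hq : 2 ≤ q) (r : ℕ) (_hr : r.Prime) (_hr2 : r ≠ 2) (_hrq : ¬ r ∣ q) (i : ℕ)
    (_hi : i = orderOf ((q : ℕ) : ZMod r)) (_heven : Even i) (n : ℕ),
    (∀ m, n = 2 * m + 1 →
      padicValNat r (∏ l ∈ Finset.range m, (q ^ (2 * (l + 1)) - 1)) =
        padicValNat r (∏ k : Fin n, (q ^ n - q ^ (k : ℕ)))) ∧
    (∀ m, n = 2 * m → 1 ≤ m → ¬ (i ∣ n ∧ Odd (n / i)) →
      padicValNat r ((q ^ m - 1) * ∏ l ∈ Finset.range (m - 1), (q ^ (2 * (l + 1)) - 1)) =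
        padicValNat r (∏ k : Fin n, (q ^ n - q ^ (k : ℕ)))) ∧
    (∀ m, n = 2 * m → 1 ≤ m → ¬ (i ∣ n ∧ Even (n / i)) →
      padicValNat r ((q ^ m + 1) * ∏ l ∈ Finset.range (m - 1), (q ^ (2 * (l + 1)) - 1)) =
        padicValNat r (∏ k : Fin n, (q ^ n - q ^ (k : ℕ))))

/-- [IDX] -/
def PkgIdx : Prop :=
  ∀ (F : Type u) [Field F] [Fintype F] (_h2 : (2 : F) ≠ 0) (n : ℕ) (_hn : 1 ≤ n)
    (Q : (Fin n → F) → F) (_hQ : Cfsg.Geo.IsNondegenerateQuadraticForm Q)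
    (r : ℕ) (_hr : r.Prime) (_hr2 : r ≠ 2)
    (_hΩ : r ∣ (Cfsg.Geo.quadSimilarityGroup Q).relIndex (Cfsg.Geo.specialLinear (Fin n) F)),
    padicValNat r (isoCard Q) + padicValNat r (Fintype.card F - 1) <
      padicValNat r (∏ k : Fin n, (Fintype.card F ^ n - Fintype.card F ^ (k : ℕ)))

/-- [IDXLE] -/
def PkgIdxLe : Prop :=
  ∀ (F : Type u) [Field F] [Fintype F] (n : ℕ) (_hn : 1 ≤ n) (Q : (Fin n → F) → F)
    (r : ℕ) (_hr : r.Prime) (_hrq : ¬ r ∣ Fintype.card F)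
    (_hΩ : r ∣ (Cfsg.Geo.quadSimilarityGroup Q).relIndex (Cfsg.Geo.specialLinear (Fin n) F)),
    orderOf ((Fintype.card F : ℕ) : ZMod r) ≤ n

/-- [EVENIDX] -/
def PkgEvenIdx : Prop :=
  ∀ (F : Type u) [Field F] [Fintype F] (_h2 : (2 : F) ≠ 0) (n : ℕ) (_hn : 1 ≤ n)
    (Q : (Fin n → F) → F) (_hQ : Cfsg.Geo.IsNondegenerateQuadraticForm Q) (r : ℕ) (_hr : r.Prime)
    (_hr2 : r ≠ 2) (_hrq : ¬ r ∣ Fintype.card F) (i : ℕ)
    (_hi : i = orderOf ((Fintype.card F : ℕ) : ZMod r)) (_heven : Even i)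
    (_hΩ : r ∣ (Cfsg.Geo.quadSimilarityGroup Q).relIndex (Cfsg.Geo.specialLinear (Fin n) F)),
    i ∣ n ∧ (IsSquare ((-1 : F) ^ (n / 2) * (gram Q).det) ↔ Odd (n / i))

/-! ## Positive cases -/

/-- [SLCONJ] -/
def PkgSLConj : Prop :=
  ∀ (F : Type u) [Field F] [Fintype F] (n : ℕ) (x x' : GL (Fin n) F),
    x ∈ Cfsg.Geo.specialLinear (Fin n) F →
    Module.End.IsSemisimple (Matrix.toLin' (x : Matrix (Fin n) (Fin n) F)) →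
    Module.End.IsSemisimple (Matrix.toLin' (x' : Matrix (Fin n) (Fin n) F)) →
    (x : Matrix (Fin n) (Fin n) F).charpoly = (x' : Matrix (Fin n) (Fin n) F).charpoly →
    ∃ g ∈ Cfsg.Geo.specialLinear (Fin n) F, g⁻¹ * x * g = x'

/-- [SS] -/
def PkgSS : Prop :=
  ∀ (F : Type u) [Field F] (n : ℕ) (x : Matrix (Fin n) (Fin n) F) (k : ℕ) (z : F),
    (k : F) ≠ 0 → z ≠ 0 → x ^ k = z • (1 : Matrix (Fin n) (Fin n) F) →
    Module.End.IsSemisimple (Matrix.toLin' x)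

/-- [P2CHAR] -/
def PkgP2Char : Prop :=
  ∀ (F : Type u) [Field F] (_h2 : (2 : F) ≠ 0) (n : ℕ) (x : Matrix (Fin n) (Fin n) F) (c : F),
    c ≠ 0 → x ^ 2 = (c * c) • (1 : Matrix (Fin n) (Fin n) F) →
    ∃ k, k ≤ n ∧ x.charpoly = (X - C c) ^ k * (X + C c) ^ (n - k)

/-- [P2REAL] -/
def PkgP2Real : Prop :=
  ∀ (F : Type u) [Field F] [Fintype F] (_h2 : (2 : F) ≠ 0) (n : ℕ) (Q : (Fin n → F) → F)
    (_hQ : Cfsg.Geo.IsNondegenerateQuadraticForm Q) (c : F) (_hc : c ≠ 0) (k : ℕ) (_hk : k ≤ n),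
    ∃ x' : GL (Fin n) F, x' ∈ Cfsg.Geo.quadSimilarityGroup Q ∧
      (x' : Matrix (Fin n) (Fin n) F) ^ 2 = (c * c) • (1 : Matrix (Fin n) (Fin n) F) ∧
      (x' : Matrix (Fin n) (Fin n) F).charpoly = (X - C c) ^ k * (X + C c) ^ (n - k)

/-- [P2NCHAR] -/
def PkgP2NChar : Prop :=
  ∀ (F : Type u) [Field F] (n : ℕ) (x : Matrix (Fin n) (Fin n) F) (z : F),
    ¬ IsSquare z → x ^ 2 = z • (1 : Matrix (Fin n) (Fin n) F) →
    Even n ∧ x.charpoly = (X ^ 2 - C z) ^ (n / 2)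

/-- [P2NREAL] -/
def PkgP2NReal : Prop :=
  ∀ (F : Type u) [Field F] [Fintype F] (_h2 : (2 : F) ≠ 0) (n : ℕ) (Q : (Fin n → F) → F)
    (_hQ : Cfsg.Geo.IsNondegenerateQuadraticForm Q) (_hn : Even n) (z : F) (_hz : z ≠ 0),
    ∃ x' : GL (Fin n) F, x' ∈ Cfsg.Geo.quadSimilarityGroup Q ∧
      (x' : Matrix (Fin n) (Fin n) F) ^ 2 = z • (1 : Matrix (Fin n) (Fin n) F) ∧
      (x' : Matrix (Fin n) (Fin n) F).charpoly = (X ^ 2 - C z) ^ (n / 2)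

/-- [P35RED] -/
def PkgP35Red : Prop :=
  ∀ (F : Type u) [Field F] [Fintype F] (r : ℕ) (_hr : r.Prime) (_hr2 : r ≠ 2)
    (_hv : padicValNat r (Fintype.card F - 1) = 1) (x : GL (Fin r) F),
    x ∈ Cfsg.Geo.specialLinear (Fin r) F →
    (∃ z : F, ((x ^ r : GL (Fin r) F) : Matrix (Fin r) (Fin r) F) =
      z • (1 : Matrix (Fin r) (Fin r) F)) →
    x ^ r = 1

/-- [P35DIAG] -/
def PkgP35Diag : Prop :=
  ∀ (F : Type u) [Field F] [Fintype F] (r : ℕ) (_hr : r.Prime) (_hrq : r ∣ Fintype.card F - 1)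
    (n : ℕ) (x : Matrix (Fin n) (Fin n) F), x ^ r = 1 →
    ∃ d : Fin n → F, (∀ j, d j ^ r = 1) ∧ x.charpoly = ∏ j, (X - C (d j))

/-- [P35SYM] -/
def PkgP35Sym : Prop :=
  ∀ (F : Type u) [Field F] (r : ℕ) (_hr : r = 3 ∨ r = 5) (d : Fin r → F),
    (∀ j, d j ^ r = 1) → ∏ j, d j = 1 →
    ∃ (s : F) (t : Fin ((r - 1) / 2) → F), s ≠ 0 ∧ (∀ k, t k ≠ 0) ∧
      ∏ j, (X - C (d j)) = (X - C s) * ∏ k, ((X - C (s * t k)) * (X - C (s / t k)))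

/-- [P35REAL] -/
def PkgP35Real : Prop :=
  ∀ (F : Type u) [Field F] [Fintype F] (_h2 : (2 : F) ≠ 0) (n m : ℕ) (_hnm : n = 2 * m + 1)
    (Q : (Fin n → F) → F) (_hQ : Cfsg.Geo.IsNondegenerateQuadraticForm Q)
    (s : F) (t : Fin m → F), s ≠ 0 → (∀ k, t k ≠ 0) →
    ∃ x' : GL (Fin n) F, x' ∈ Cfsg.Geo.quadSimilarityGroup Q ∧
      Module.End.IsSemisimple (Matrix.toLin' (x' : Matrix (Fin n) (Fin n) F)) ∧
      (x' : Matrix (Fin n) (Fin n) F).charpoly =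
        (X - C s) * ∏ k, ((X - C (s * t k)) * (X - C (s / t k)))

end Cfsg.Agent.Lib.Helper23.LQ
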