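-- Team project LQ (S5981): assembly of the packages (helper23).
import Cfsg.Agent.Lib.Helper23.LQ.Defs

set_option autoImplicit false
open scoped MatrixGroups
open Matrix Polynomial

namespace Cfsg.Agent.Lib.Helper23.LQ

universe u

section
variable {F : Type u} [Field F]

theorem det_eq_one_of_mem_sl {n : ℕ} {g : GL (Fin n) F}
    (hg : g ∈ Cfsg.Geo.specialLinear (Fin n) F) : (g : Matrix (Fin n) (Fin n) F).det = 1 := by
  have h1 : Matrix.GeneralLinearGroup.det g = 1 := hg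
  have h2 := congrArg (fun u : Fˣ => (u : F)) h1
  simpa [Matrix.GeneralLinearGroup.det] using h2

theorem fix_conj (hConj : PkgConj.{u}) {n : ℕ} {Q : (Fin n → F) → F}
    (hQ : Cfsg.Geo.IsNondegenerateQuadraticForm Q) {x : GL (Fin n) F} (hx : Fixable Q x) :
    ∃ Q' : (Fin n → F) → F, Cfsg.Geo.IsNondegenerateQuadraticForm Q' ∧
      x ∈ Cfsg.Geo.quadSimilarityGroup Q' ∧ (gram Q').det = (gram Q).det := by
  obtain ⟨g, hg, hgx⟩ := hx
  obtain ⟨Q', h1, h2, h3⟩ := hConj F n Q hQ g x hgx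
  refine ⟨Q', h1, h2, ?_⟩
  rw [det_eq_one_of_mem_sl hg] at h3
  simpa using h3

theorem not_fix_of_not_rankSym (hConj : PkgConj.{u}) (hRank : PkgRank.{u}) {n : ℕ}
    {Q : (Fin n → F) → F} (hQ : Cfsg.Geo.IsNondegenerateQuadraticForm Q) (x : GL (Fin n) F)
    (hx : ¬ RankSym (x : Matrix (Fin n) (Fin n) F)) : ¬ Fixable Q x := by
  intro hfix
  obtain ⟨Q', hQ', hxQ', -⟩ := fix_conj hConj hQ hfix
  exact hx (hRank F n Q' hQ' x hxQ')

end

section
variable {F : Type u} [Field F] [Fintype F]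

theorem two_ne_zero_of_odd (hodd : Odd (Fintype.card F)) : (2 : F) ≠ 0 := by
  apply Ring.two_ne_zero
  intro hc
  have := FiniteField.even_card_of_char_two hc
  rw [Nat.odd_iff] at hodd
  omega

theorem der_of (hConj : PkgConj.{u}) (hMult : PkgMult.{u}) (hRank : PkgRank.{u})
    (hTransv : PkgTransv.{u}) (hDiagA : PkgDiagA.{u}) (hDiagB : PkgDiagB.{u})
    (hDiagC : PkgDiagC.{u}) (hOddDer : PkgOddDer.{u}) (hEvenDer : PkgEvenDer.{u})
    (hEvenIdx : PkgEvenIdx.{u}) (hIdxLe : PkgIdxLe.{u})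
    {p : ℕ} [Fact p.Prime] [CharP F p] (hodd : Odd (Fintype.card F)) (n : ℕ) (hn : 3 ≤ n)
    (Q : (Fin n → F) → F) (hQ : Cfsg.Geo.IsNondegenerateQuadraticForm Q)
    (r : ℕ) [Fact r.Prime] (hgap : ¬ (n = 6 ∧ r = 3))
    (hΩ : r ∣ (Cfsg.Geo.quadSimilarityGroup Q).relIndex (Cfsg.Geo.specialLinear (Fin n) F))
    (hr2 : r ≠ 2)
    (hex : ¬ ((r = 3 ∨ r = 5) ∧ n = r ∧ padicValNat r (Fintype.card F - 1) = 1)) :
    ∃ x : GL (Fin n) F, x ∈ Cfsg.Geo.specialLinear (Fin n) F ∧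
      (∃ z : F, ((x ^ r : GL (Fin n) F) : Matrix (Fin n) (Fin n) F) =
        z • (1 : Matrix (Fin n) (Fin n) F)) ∧
      (∀ z : F, (x : Matrix (Fin n) (Fin n) F) ≠ z • (1 : Matrix (Fin n) (Fin n) F)) ∧
      ¬ Fixable Q x := by
  have h2 : (2 : F) ≠ 0 := two_ne_zero_of_odd hodd
  have hrp : r.Prime := Fact.out
  have hpp : p.Prime := Fact.out
  have hq2 : 2 ≤ Fintype.card F := Fintype.one_lt_card
  have hone : ∀ y : GL (Fin n) F, y ^ r = 1 →
      ∃ z : F, ((y ^ r : GL (Fin n) F) : Matrix (Fin n) (Fin n) F) =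
        z • (1 : Matrix (Fin n) (Fin n) F) := by
    intro y hy
    exact ⟨1, by rw [hy]; simp⟩
  by_cases hrpp : r = p
  · -- r = p : transvection
    have hpq : p ∣ Fintype.card F :=
      (CharP.cast_eq_zero_iff F p _).mp (FiniteField.cast_card_eq_zero F)
    have hpq1 : ¬ r ∣ Fintype.card F - 1 := by
      rw [hrpp]
      intro h
      have h1 : p ∣ Fintype.card F - (Fintype.card F - 1) := Nat.dvd_sub hpq h
      have h2' : Fintype.card F - (Fintype.card F - 1) = 1 := by omega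
      rw [h2'] at h1
      exact hpp.one_lt.ne' (Nat.dvd_one.mp h1)
    obtain ⟨x, hx1, hxp, hxns, hxQ⟩ := hTransv F h2 p n (by omega)
    have hxr : x ^ r = 1 := by rw [hrpp]; exact hxp
    refine ⟨x, hx1, hone x hxr, hxns, ?_⟩
    intro hfix
    obtain ⟨Q', hQ', hxQ', -⟩ := fix_conj hConj hQ hfix
    exact hxQ Q' hQ' (hMult F n (by omega) Q' hQ' r hrp hpq1 x hxr hxQ')
  · have hrq : ¬ r ∣ Fintype.card F := by
      intro h
      obtain ⟨k, hp, hk⟩ := FiniteField.card F p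
      rw [hk] at h
      exact hrpp ((Nat.prime_dvd_prime_iff_eq hrp hp).mp (hrp.dvd_of_dvd_pow h))
    by_cases h1 : r ∣ Fintype.card F - 1
    · -- i = 1 : diagonal elements
      have hr3 : 3 ≤ r := by have := hrp.two_le; omega
      by_cases hA : 5 ≤ r ∧ ¬ (n = 5 ∧ r = 5)
      · obtain ⟨x, hx1, hxr, hxns, hxR⟩ := hDiagA F n hn r hrp hA.1 h1 hA.2
        exact ⟨x, hx1, hone x hxr, hxns, not_fix_of_not_rankSym hConj hRank hQ x hxR⟩
      · have hr35 : r = 3 ∨ (r = 5 ∧ n = 5) := by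
          by_cases h5 : 5 ≤ r
          · right
            have h55 : n = 5 ∧ r = 5 := not_not.mp (fun hh => hA ⟨h5, hh⟩)
            exact ⟨h55.2, h55.1⟩
          · left
            have h34 : r = 3 ∨ r = 4 := by omega
            rcases h34 with h | h
            · exact h
            · exfalso
              rw [h] at hrp
              norm_num at hrp
        by_cases hnr : n = r
        · have hv : padicValNat r (Fintype.card F - 1) ≠ 1 := fun hv =>
            hex ⟨by rcases hr35 with h | h; exact Or.inl h; exact Or.inr h.1, hnr, hv⟩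
          have hne : Fintype.card F - 1 ≠ 0 := by omega
          have h1' : 1 ≤ padicValNat r (Fintype.card F - 1) := one_le_padicValNat_of_dvd hne h1
          have hr2' : r ^ 2 ∣ Fintype.card F - 1 :=
            (padicValNat_dvd_iff_le hne).mpr (by omega)
          subst hnr
          obtain ⟨x, hx1, hxr, hxns, hxR⟩ := hDiagB F n hrp hr3 hr2'
          exact ⟨x, hx1, hxr, hxns, not_fix_of_not_rankSym hConj hRank hQ x hxR⟩
        · have hr3' : r = 3 := by
            rcases hr35 with h | h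
            · exact h
            · exact absurd (h.2.trans h.1.symm) hnr
          have hn4 : 4 ≤ n := by omega
          have hn6 : n ≠ 6 := fun h => hgap ⟨h, hr3'⟩
          obtain ⟨x, hx1, hxr, hxns, hxR⟩ := hDiagC F n hn4 hn6 (by rw [← hr3']; exact h1)
          have hxr' : x ^ r = 1 := by rw [hr3']; exact hxr
          exact ⟨x, hx1, hone x hxr', hxns, not_fix_of_not_rankSym hConj hRank hQ x hxR⟩
    · -- i ≥ 2
      have hi1 : orderOf ((Fintype.card F : ℕ) : ZMod r) ≠ 1 := by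
        intro h
        rw [orderOf_eq_one_iff] at h
        apply h1
        rw [← ZMod.natCast_eq_zero_iff, Nat.cast_sub (by omega), h]
        simp
      have hin : orderOf ((Fintype.card F : ℕ) : ZMod r) ≤ n :=
        hIdxLe F n (by omega) Q r hrp hrq hΩ
      rcases Nat.even_or_odd (orderOf ((Fintype.card F : ℕ) : ZMod r)) with hev | hod
      · obtain ⟨hdvd, hsq⟩ := hEvenIdx F h2 n (by omega) Q hQ r hrp hr2 hrq _ rfl hev hΩ
        obtain ⟨x, hx1, hxr, hxns, hxQ⟩ := hEvenDer F h2 r hrp hr2 hrq _ rfl hev n (by omega) hdvd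
        refine ⟨x, hx1, hone x hxr, hxns, ?_⟩
        intro hfix
        obtain ⟨Q', hQ', hxQ', hdet⟩ := fix_conj hConj hQ hfix
        have h3 := hxQ Q' hQ' hxQ'
        rw [hdet] at h3
        have h4 : Odd (n / orderOf ((Fintype.card F : ℕ) : ZMod r)) ↔
            Even (n / orderOf ((Fintype.card F : ℕ) : ZMod r)) := hsq.symm.trans h3
        rcases Nat.even_or_odd (n / orderOf ((Fintype.card F : ℕ) : ZMod r)) with he | ho
        · exact (Nat.not_odd_iff_even.mpr he) (h4.mpr he)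
        · exact (Nat.not_even_iff_odd.mpr ho) (h4.mp ho)
      · have hi3 : 3 ≤ orderOf ((Fintype.card F : ℕ) : ZMod r) := by
          obtain ⟨k, hk⟩ := hod
          omega
        obtain ⟨x, hx1, hxr, hxns, hxQ⟩ := hOddDer F h2 r hrp hr2 hrq _ rfl hod hi3 n hin
        refine ⟨x, hx1, hone x hxr, hxns, ?_⟩
        intro hfix
        obtain ⟨Q', hQ', hxQ', -⟩ := fix_conj hConj hQ hfix
        exact hxQ Q' hQ' hxQ'

theorem pos2_of (hSLConj : PkgSLConj.{u}) (hSS : PkgSS.{u}) (hP2Char : PkgP2Char.{u})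
    (hP2Real : PkgP2Real.{u}) (hP2NChar : PkgP2NChar.{u}) (hP2NReal : PkgP2NReal.{u})
    (hodd : Odd (Fintype.card F)) (n : ℕ) (hn : 1 ≤ n)
    (Q : (Fin n → F) → F) (hQ : Cfsg.Geo.IsNondegenerateQuadraticForm Q)
    (x : GL (Fin n) F) (hx : x ∈ Cfsg.Geo.specialLinear (Fin n) F)
    (hz : ∃ z : F, ((x ^ 2 : GL (Fin n) F) : Matrix (Fin n) (Fin n) F) =
        z • (1 : Matrix (Fin n) (Fin n) F)) : Fixable Q x := by
  have h2 : (2 : F) ≠ 0 := two_ne_zero_of_odd hodd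
  have : Nonempty (Fin n) := ⟨⟨0, by omega⟩⟩
  obtain ⟨z, hz⟩ := hz
  have hx2 : (x : Matrix (Fin n) (Fin n) F) ^ 2 = z • (1 : Matrix (Fin n) (Fin n) F) := by
    rw [← hz]; simp
  have hz0 : z ≠ 0 := by
    intro h0
    rw [h0, zero_smul] at hz
    exact Units.ne_zero (x ^ 2) hz
  have h2k : ((2 : ℕ) : F) ≠ 0 := by simpa using h2
  have hssx := hSS F n (x : Matrix (Fin n) (Fin n) F) 2 z h2k hz0 hx2
  by_cases hsq : IsSquare z
  · obtain ⟨c, hc⟩ := hsq
    have hc0 : c ≠ 0 := by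
      intro h0
      rw [h0, mul_zero] at hc
      exact hz0 hc
    obtain ⟨k, hk, hchar⟩ := hP2Char F h2 n (x : Matrix (Fin n) (Fin n) F) c hc0 (by rw [hx2, hc])
    obtain ⟨x', hx'Q, hx'2, hx'char⟩ := hP2Real F h2 n Q hQ c hc0 k hk
    have hssx' := hSS F n (x' : Matrix (Fin n) (Fin n) F) 2 (c * c) h2k (mul_ne_zero hc0 hc0) hx'2
    obtain ⟨g, hg, hgx⟩ := hSLConj F n x x' hx hssx hssx' (by rw [hchar, hx'char])
    exact ⟨g, hg, by rw [hgx]; exact hx'Q⟩
  · obtain ⟨hev, hchar⟩ := hP2NChar F n (x : Matrix (Fin n) (Fin n) F) z hsq hx2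
    obtain ⟨x', hx'Q, hx'2, hx'char⟩ := hP2NReal F h2 n Q hQ hev z hz0
    have hssx' := hSS F n (x' : Matrix (Fin n) (Fin n) F) 2 z h2k hz0 hx'2
    obtain ⟨g, hg, hgx⟩ := hSLConj F n x x' hx hssx hssx' (by rw [hchar, hx'char])
    exact ⟨g, hg, by rw [hgx]; exact hx'Q⟩

theorem pos35_of (hSLConj : PkgSLConj.{u}) (hSS : PkgSS.{u}) (hP35Red : PkgP35Red.{u})
    (hP35Diag : PkgP35Diag.{u}) (hP35Sym : PkgP35Sym.{u}) (hP35Real : PkgP35Real.{u})
    (hodd : Odd (Fintype.card F)) (r : ℕ) [Fact r.Prime] (h35 : r = 3 ∨ r = 5)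
    (Q : (Fin r → F) → F) (hQ : Cfsg.Geo.IsNondegenerateQuadraticForm Q)
    (hv : padicValNat r (Fintype.card F - 1) = 1)
    (x : GL (Fin r) F) (hx : x ∈ Cfsg.Geo.specialLinear (Fin r) F)
    (hz : ∃ z : F, ((x ^ r : GL (Fin r) F) : Matrix (Fin r) (Fin r) F) =
        z • (1 : Matrix (Fin r) (Fin r) F)) : Fixable Q x := by
  have h2 : (2 : F) ≠ 0 := two_ne_zero_of_odd hodd
  have hrp : r.Prime := Fact.out
  have hq2 : 2 ≤ Fintype.card F := Fintype.one_lt_card
  have hr2 : r ≠ 2 := by rcases h35 with h | h <;> omega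
  have hxr : x ^ r = 1 := hP35Red F r hrp hr2 hv x hx hz
  have hr1 : r ∣ Fintype.card F - 1 := dvd_of_one_le_padicValNat (by omega)
  have hxr' : (x : Matrix (Fin r) (Fin r) F) ^ r = 1 := by
    rw [← Units.val_pow_eq_pow_val, hxr]; rfl
  obtain ⟨d, hd, hchar⟩ := hP35Diag F r hrp hr1 r (x : Matrix (Fin r) (Fin r) F) hxr'
  have hdet : ∏ j, d j = 1 := by
    have h1 : (x : Matrix (Fin r) (Fin r) F).det = 1 := det_eq_one_of_mem_sl hx
    have h3 := Matrix.det_eq_sign_charpoly_coeff (x : Matrix (Fin r) (Fin r) F)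
    rw [hchar, Polynomial.coeff_zero_eq_eval_zero, Polynomial.eval_prod] at h3
    simp only [eval_sub, eval_X, eval_C, zero_sub] at h3
    rw [Finset.prod_neg, ← mul_assoc] at h3
    simp only [Finset.card_univ, Fintype.card_fin, ← mul_pow, mul_neg, mul_one, neg_neg, one_pow,
      one_mul] at h3
    rw [← h3]; exact h1
  obtain ⟨s, t, hs, ht, hsym⟩ := hP35Sym F r h35 d hd hdet
  have hnm : r = 2 * ((r - 1) / 2) + 1 := by rcases h35 with h | h <;> omega
  obtain ⟨x', hx'Q, hx'ss, hx'char⟩ := hP35Real F h2 r ((r - 1) / 2) hnm Q hQ s t hs ht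
  have hrF : ((r : ℕ) : F) ≠ 0 := by
    intro h0
    obtain ⟨k, hk⟩ := hr1
    have h4 : ((Fintype.card F - 1 : ℕ) : F) = 0 := by rw [hk, Nat.cast_mul, h0, zero_mul]
    rw [Nat.cast_sub (by omega), FiniteField.cast_card_eq_zero] at h4
    simp at h4
  have hssx := hSS F r (x : Matrix (Fin r) (Fin r) F) r 1 hrF one_ne_zero (by rw [hxr']; simp)
  obtain ⟨g, hg, hgx⟩ := hSLConj F r x x' hx hssx hx'ss (by rw [hchar, hsym, hx'char])
  exact ⟨g, hg, by rw [hgx]; exact hx'Q⟩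

/-- The frozen statement of S5981 from the top-level packages. -/
theorem result_of (hConj : PkgConj.{u}) (hMult : PkgMult.{u}) (hRank : PkgRank.{u})
    (hTransv : PkgTransv.{u}) (hDiagA : PkgDiagA.{u}) (hDiagB : PkgDiagB.{u})
    (hDiagC : PkgDiagC.{u}) (hOddDer : PkgOddDer.{u}) (hEvenDer : PkgEvenDer.{u})
    (hEvenIdx : PkgEvenIdx.{u}) (hIdxLe : PkgIdxLe.{u})
    (hSLConj : PkgSLConj.{u}) (hSS : PkgSS.{u}) (hP2Char : PkgP2Char.{u})
    (hP2Real : PkgP2Real.{u}) (hP2NChar : PkgP2NChar.{u}) (hP2NReal : PkgP2NReal.{u})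
    (hP35Red : PkgP35Red.{u}) (hP35Diag : PkgP35Diag.{u}) (hP35Sym : PkgP35Sym.{u})
    (hP35Real : PkgP35Real.{u})
    {p : ℕ} [Fact p.Prime] [CharP F p] {q : ℕ} (hq : Fintype.card F = q)
    (hodd : Odd q) (n : ℕ) (hn : 3 ≤ n) (Q : (Fin n → F) → F)
    (hQ : Cfsg.Geo.IsNondegenerateQuadraticForm Q)
    (r : ℕ) [Fact r.Prime] (hgap : ¬ (n = 6 ∧ r = 3))
    (hΩ : r ∣ (Cfsg.Geo.quadSimilarityGroup Q).relIndex (Cfsg.Geo.specialLinear (Fin n) F)) :
    (∀ x ∈ Cfsg.Geo.specialLinear (Fin n) F, (∃ z : F, ((x ^ r : GL (Fin n) F) : Matrix (Fin n) (Fin n) F) = z • (1 : Matrix (Fin n) (Fin n) F)) →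
      (∀ z : F, (x : Matrix (Fin n) (Fin n) F) ≠ z • (1 : Matrix (Fin n) (Fin n) F)) →
      ∃ g ∈ Cfsg.Geo.specialLinear (Fin n) F, g⁻¹ * x * g ∈ Cfsg.Geo.quadSimilarityGroup Q) ↔
    (r = 2 ∨ ((r = 3 ∨ r = 5) ∧ n = r ∧ padicValNat r (q - 1) = 1)) := by
  subst hq
  constructor
  · intro hall
    by_contra hcon
    push Not at hcon
    obtain ⟨x, hx1, hxz, hxns, hxfix⟩ := der_of hConj hMult hRank hTransv hDiagA hDiagB hDiagC
      hOddDer hEvenDer hEvenIdx hIdxLe (p := p) hodd n hn Q hQ r hgap hΩ hcon.1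
      (fun h => hcon.2 h.1 h.2.1 h.2.2)
    exact hxfix (hall x hx1 hxz hxns)
  · rintro (rfl | ⟨h35, hnr, hv⟩)
    · intro x hx hz _
      exact pos2_of hSLConj hSS hP2Char hP2Real hP2NChar hP2NReal hodd n (by omega) Q hQ x hx hz
    · subst hnr
      intro x hx hz _
      exact pos35_of hSLConj hSS hP35Red hP35Diag hP35Sym hP35Real hodd n h35 Q hQ hv x hx hz

end

end Cfsg.Agent.Lib.Helper23.LQ
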